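import Cfsg.Agent.H369.Socle
import Cfsg.Agent.S0205
import Cfsg.Agent.Lib.GenFitting
import Cfsg.Agent.FastGrp
import Cfsg.Agent.Prune
set_option linter.all false
prune_inst 0x7f00000000000000000000000000000000000000000000000000000000000000000000000000000000000000000000000000000000000000000000000000000000000000000000000000000000000000003fffffffffffffffffffffffffffbeffbdffffffff
open scoped Cfsg.Agent.FastGrp

/-!
# Groups with trivial Fitting subgroup and an automorphism of order two (for S3929)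

`top_bound`: if `F(X) = 1`, `α` is an automorphism with `α² = 1` and the components satisfy two order bounds, then
`|X| ≤ n! |C_X(α)|⁵`, and `X` has an `α`-invariant elementary abelian `2`-subgroup of order at least `2 ^ n`,
`n` the number of components.
-/

set_option autoImplicit false
set_option linter.style.haveILetI false
set_option linter.unusedSectionVars false
set_option linter.unusedVariables false

namespace Cfsg.Agent.H446.TopBound

open Subgroup Cfsg Cfsg.Agent.SignalizersComponents.Components Cfsg.Agent.H369.Socle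
open scoped commutatorElement

universe u

/-! ## Solvable normal subgroups -/

theorem noSol_of_fitting {X : Type*} [Group X] [Finite X] (hF : fittingSubgroup X = ⊥) : NoSol X := by
  classical
  intro K hK hs
  by_contra hne
  have hex : ∃ n, derivedSeries K n = ⊥ := hs.solvable
  set m := Nat.find hex with hm
  have h1 : derivedSeries K m = ⊥ := Nat.find_spec hex
  have hm0 : m ≠ 0 := by
    intro h0
    rw [h0, derivedSeries_zero] at h1
    apply hne
    have : ∀ x : K, x = 1 := fun x => by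
      have : x ∈ (⊤ : Subgroup K) := mem_top x
      rw [h1] at this
      exact mem_bot.1 this
    rw [eq_bot_iff]
    intro x hx
    exact mem_bot.2 (congrArg Subtype.val (this ⟨x, hx⟩))
  obtain ⟨k, hk⟩ := Nat.exists_eq_succ_of_ne_zero hm0
  have h2 : derivedSeries K k ≠ ⊥ := Nat.find_min hex (by omega)
  rw [hk, Nat.succ_eq_add_one, derivedSeries_succ] at h1
  set A : Subgroup K := derivedSeries K k with hA
  haveI : A.Characteristic := derivedSeries_characteristic K k
  have hAn : (A.map K.subtype).Normal := ConjAct.normal_of_characteristic_of_normal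
  have hcomm : ∀ x ∈ A, ∀ y ∈ A, x * y = y * x := by
    intro x hx y hy
    have h3 : ⁅x, y⁆ ∈ ⁅A, A⁆ := commutator_mem_commutator hx hy
    rw [h1, mem_bot, commutatorElement_def] at h3
    rw [mul_inv_eq_one, mul_inv_eq_iff_eq_mul] at h3
    exact h3
  have hnil : Group.IsNilpotent (A.map K.subtype) := by
    let _ : CommGroup (A.map K.subtype) :=
      { (inferInstance : Group (A.map K.subtype)) with
        mul_comm := by
          rintro ⟨u, x, hx, rfl⟩ ⟨v, y, hy, rfl⟩
          apply Subtype.ext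
          exact congrArg (fun z : K => (z : X)) (hcomm x hx y hy) }
    infer_instance
  have h3 : A.map K.subtype ≤ fittingSubgroup X := Cfsg.Agent.Lib.Cores.le_fittingSubgroup hAn hnil
  rw [hF, le_bot_iff] at h3
  exact h2 ((Subgroup.map_eq_bot_iff_of_injective A K.subtype_injective).1 h3)

/-! ## Involutory automorphisms of groups of even order -/

theorem exists_fixed_involution {T : Type*} [Group T] [Finite T] (heven : Even (Nat.card T))
    (β : MulAut T) (hβ : ∀ x, β (β x) = x) : ∃ t : T, t ≠ 1 ∧ t * t = 1 ∧ β t = t := by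
  classical
  haveI : Fintype T := Fintype.ofFinite T
  haveI : Fact (Nat.Prime 2) := ⟨Nat.prime_two⟩
  -- the inversion
  let f : Function.End T := fun x => x⁻¹
  have hf : f ^ 2 ^ 1 = 1 := by
    funext x
    change (x⁻¹)⁻¹ = x
    exact inv_inv x
  have h1 := Equiv.Perm.card_fixedPoints_modEq (p := 2) (n := 1) hf
  let Y := Function.fixedPoints f
  let g : Function.End Y := fun y => ⟨β y, by
    have hy : (y : T)⁻¹ = y := y.2
    change (β (y : T))⁻¹ = β y
    rw [← map_inv, hy]⟩
  have hg : g ^ 2 ^ 1 = 1 := by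
    funext y
    exact Subtype.ext (hβ y)
  have h2 := Equiv.Perm.card_fixedPoints_modEq (p := 2) (n := 1) hg
  have h3 : Fintype.card T % 2 = 0 := by
    rw [Nat.card_eq_fintype_card] at heven
    exact Nat.even_iff.1 heven
  have h4 : Fintype.card (Function.fixedPoints g) % 2 = 0 := by
    have h5 : Fintype.card T % 2 = Fintype.card Y % 2 := h1
    have h6 : Fintype.card Y % 2 = Fintype.card (Function.fixedPoints g) % 2 := h2
    omega
  have h1f : (1 : T) ∈ Y := by
    change (1 : T)⁻¹ = 1
    exact inv_one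
  have h1g : (⟨1, h1f⟩ : Y) ∈ Function.fixedPoints g := Subtype.ext (map_one β)
  have hpos : 0 < Fintype.card (Function.fixedPoints g) := Fintype.card_pos_iff.2 ⟨⟨_, h1g⟩⟩
  have h7 : 1 < Fintype.card (Function.fixedPoints g) := by omega
  obtain ⟨y, hy⟩ := Fintype.exists_ne_of_one_lt_card h7 ⟨_, h1g⟩
  refine ⟨((y : Y) : T), ?_, ?_, ?_⟩
  · intro h
    apply hy
    apply Subtype.ext
    apply Subtype.ext
    exact h
  · have h8 : ((y : Y) : T)⁻¹ = ((y : Y) : T) := (y : Y).2
    calc ((y : Y) : T) * ((y : Y) : T) = ((y : Y) : T)⁻¹ * ((y : Y) : T) := by rw [h8]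
      _ = 1 := inv_mul_cancel _
  · exact congrArg Subtype.val y.2

/-! ## Families of commuting subgroups -/

section fam

variable {X : Type u} [Group X] [Finite X] {I : Finset (Subgroup X)}

/-- the subgroup generated by a finite family -/
def SS (J : Finset (Subgroup X)) : Subgroup X := sSup (J : Set (Subgroup X))

theorem le_SS {J : Finset (Subgroup X)} {K : Subgroup X} (hK : K ∈ J) : K ≤ SS J :=
  le_sSup (Finset.mem_coe.2 hK)

theorem SS_mono {J J' : Finset (Subgroup X)} (h : J ⊆ J') : SS J ≤ SS J' :=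
  sSup_le_sSup (Finset.coe_subset.2 h)

/-- commuting family of subgroups with trivial centres -/
structure CF (I : Finset (Subgroup X)) : Prop where
  comm : ∀ K ∈ I, ∀ L ∈ I, K ≠ L → ∀ x ∈ K, ∀ y ∈ L, x * y = y * x
  cent : ∀ K ∈ I, ∀ x ∈ K, (∀ y ∈ K, x * y = y * x) → x = 1

theorem CF.comm_SS (h : CF I) {J : Finset (Subgroup X)} (hJ : J ⊆ I) {K : Subgroup X} (hK : K ∈ I)
    (hKJ : K ∉ J) {x y : X} (hx : x ∈ K) (hy : y ∈ SS J) : x * y = y * x := by
  have h1 : SS J ≤ centralizer ({x} : Set X) := by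
    refine sSup_le fun L hL => ?_
    intro l hl
    rw [mem_centralizer_singleton_iff]
    have hne : K ≠ L := fun e => hKJ (e ▸ Finset.mem_coe.1 hL)
    exact (h.comm K hK L (hJ (Finset.mem_coe.1 hL)) hne x hx l hl).symm
  have h2 := h1 hy
  rw [mem_centralizer_singleton_iff] at h2
  exact h2.symm

theorem CF.disj (h : CF I) {J : Finset (Subgroup X)} (hJ : J ⊆ I) {K : Subgroup X} (hK : K ∈ I)
    (hKJ : K ∉ J) {x : X} (hx : x ∈ K) (hxJ : x ∈ SS J) : x = 1 :=
  h.cent K hK x hx fun y hy => (h.comm_SS hJ hK hKJ hy hxJ).symm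

/-- the number of fixed points of `α` in the product of the family -/
noncomputable def fixc (α : MulAut X) (J : Finset (Subgroup X)) : ℕ :=
  Nat.card {x : X // x ∈ SS J ∧ α x = x}

theorem fixc_empty (α : MulAut X) : 1 ≤ fixc α ∅ := by
  unfold fixc
  haveI : Nonempty {x : X // x ∈ SS (∅ : Finset (Subgroup X)) ∧ α x = x} :=
    ⟨⟨1, one_mem _, map_one α⟩⟩
  exact Nat.card_pos

/-- restriction of `α` to an invariant subgroup -/
def rst (α : MulAut X) (T : Subgroup X) (h : T.map α.toMonoidHom = T) : MulAut T :=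
  (MulEquiv.subgroupMap α T).trans (MulEquiv.subgroupCongr h)

theorem rst_apply (α : MulAut X) (T : Subgroup X) (h : T.map α.toMonoidHom = T) (t : T) :
    ((rst α T h t : T) : X) = α t := rfl

/-- fixed member -/
theorem step_fix (h : CF I) (α : MulAut X) {T : Subgroup X} (hTI : T ∈ I) {J : Finset (Subgroup X)} (hJ : J ⊆ I)
    (hTJ : T ∉ J) (hT : T.map α.toMonoidHom = T) [DecidableEq (Subgroup X)] :
    Nat.card {t : T // rst α T hT t = t} * fixc α J ≤ fixc α (insert T J) := by
  unfold fixc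
  rw [← Nat.card_prod]
  refine Nat.card_le_card_of_injective
    (fun z : {t : T // rst α T hT t = t} × {x : X // x ∈ SS J ∧ α x = x} =>
      (⟨(z.1.1 : X) * z.2.1, ?_, ?_⟩ : {x : X // x ∈ SS (insert T J) ∧ α x = x})) ?_
  · exact mul_mem (le_SS (Finset.mem_insert_self T J) z.1.1.2)
      (SS_mono (Finset.subset_insert T J) z.2.2.1)
  · have h1 : α (z.1.1 : X) = z.1.1 := by
      rw [← rst_apply α T hT, z.1.2]
    rw [map_mul, h1, z.2.2.2]
  · rintro ⟨⟨t, ht⟩, ⟨x, hx⟩⟩ ⟨⟨t', ht'⟩, ⟨x', hx'⟩⟩ heq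
    have h1 : (t : X) * x = t' * x' := congrArg Subtype.val heq
    have h2 : (t' : X)⁻¹ * t = x' * x⁻¹ := by
      rw [eq_mul_inv_iff_mul_eq, mul_assoc, h1, inv_mul_cancel_left]
    have h3 : (t' : X)⁻¹ * t = 1 :=
      h.disj hJ hTI hTJ (mul_mem (inv_mem t'.2) t.2) (h2 ▸ mul_mem hx'.1 (inv_mem hx.1))
    have h4 : (t : X) = t' := (inv_mul_eq_one.1 h3).symm
    have h5 : x = x' := by rw [h4] at h1; exact mul_left_cancel h1
    have h6 : t = t' := Subtype.ext h4
    subst h6
    subst h5
    rfl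

/-- interchanged members -/
theorem step_swap (h : CF I) (α : MulAut X) (h2 : ∀ x, α (α x) = x) {T T' : Subgroup X} (hTI : T ∈ I)
    (hTI' : T' ∈ I) (hne : T ≠ T') {J : Finset (Subgroup X)} (hJ : J ⊆ I)
    (hTJ : T ∉ J) (hTJ' : T' ∉ J) (hT : T.map α.toMonoidHom = T') [DecidableEq (Subgroup X)] :
    Nat.card T * fixc α J ≤ fixc α (insert T (insert T' J)) := by
  unfold fixc
  rw [← Nat.card_prod]
  have hα : ∀ t : T, α t ∈ T' := fun t => hT ▸ mem_map_of_mem _ t.2
  refine Nat.card_le_card_of_injective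
    (fun z : T × {x : X // x ∈ SS J ∧ α x = x} =>
      (⟨(z.1 : X) * α z.1 * z.2.1, ?_, ?_⟩ : {x : X // x ∈ SS (insert T (insert T' J)) ∧ α x = x})) ?_
  · refine mul_mem (mul_mem (le_SS (Finset.mem_insert_self T _) z.1.2) ?_)
      (SS_mono ((Finset.subset_insert T' J).trans (Finset.subset_insert T _)) z.2.2.1)
    exact le_SS (Finset.mem_insert_of_mem (Finset.mem_insert_self T' J)) (hα z.1)
  · rw [map_mul, map_mul, h2, z.2.2.2, h.comm T hTI T' hTI' hne z.1 z.1.2 _ (hα z.1)]
  · rintro ⟨t, ⟨x, hx⟩⟩ ⟨t', ⟨x', hx'⟩⟩ heq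
    have h1 : (t : X) * α t * x = t' * α t' * x' := congrArg Subtype.val heq
    have h3 : (t' : X)⁻¹ * t = (α t' * x') * (α t * x)⁻¹ := by
      rw [eq_mul_inv_iff_mul_eq, mul_assoc, ← mul_assoc (t : X), h1, mul_assoc (t' : X),
        inv_mul_cancel_left]
    have hmem : ∀ (s : T) (y : X), y ∈ SS J → α s * y ∈ SS (insert T' J) := fun s y hy =>
      mul_mem (le_SS (Finset.mem_insert_self T' J) (hα s)) (SS_mono (Finset.subset_insert T' J) hy)
    have hTJ2 : T ∉ insert T' J := by
      rw [Finset.mem_insert, not_or]; exact ⟨hne, hTJ⟩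
    have h4 : (t' : X)⁻¹ * t = 1 :=
      h.disj (Finset.insert_subset hTI' hJ) hTI hTJ2 (mul_mem (inv_mem t'.2) t.2)
        (h3 ▸ mul_mem (hmem t' x' hx'.1) (inv_mem (hmem t x hx.1)))
    have h5 : (t : X) = t' := (inv_mul_eq_one.1 h4).symm
    have h6 : x = x' := by rw [h5] at h1; exact mul_left_cancel h1
    have h7 : t = t' := Subtype.ext h5
    subst h7
    subst h6
    rfl

/-- `A` is a commuting family of involutions, `α`-invariant, in the product of `J`, of order at least `2 ^ |J|` -/
def EA (α : MulAut X) (J : Finset (Subgroup X)) : Prop :=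
  ∃ A : Subgroup X, A ≤ SS J ∧ (∀ a ∈ A, ∀ b ∈ A, a * b = b * a) ∧ (∀ a ∈ A, a * a = 1) ∧ (∀ a ∈ A, α a ∈ A) ∧
    2 ^ J.card ≤ Nat.card A

/-- adjoin an involution commuting with `A` -/
theorem adj {A : Subgroup X} (hab : ∀ a ∈ A, ∀ b ∈ A, a * b = b * a) (h2 : ∀ a ∈ A, a * a = 1) {t : X}
    (ht2 : t * t = 1) (htA : ∀ a ∈ A, t * a = a * t) (hnt : t ∉ A) :
    (∀ a ∈ A ⊔ zpowers t, ∀ b ∈ A ⊔ zpowers t, a * b = b * a) ∧ (∀ a ∈ A ⊔ zpowers t, a * a = 1) ∧
      2 * Nat.card A ≤ Nat.card ↥(A ⊔ zpowers t) := by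
  let B : Subgroup X :=
    { carrier := {x | x ∈ A ∨ t * x ∈ A}
      one_mem' := Or.inl (one_mem A)
      mul_mem' := by
        rintro a b (ha | ha) (hb | hb)
        · exact Or.inl (mul_mem ha hb)
        · right
          rw [← mul_assoc, htA a ha, mul_assoc]
          exact mul_mem ha hb
        · right
          rw [← mul_assoc]
          exact mul_mem ha hb
        · left
          have h3 : a * b = (t * a) * (t * b) := by
            have h4 : t * (t * a) = a := by rw [← mul_assoc, ht2, one_mul]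
            have h5 : t * (t * a) = (t * a) * t := htA _ ha
            rw [h4] at h5
            rw [← mul_assoc (t * a) t b, ← h5]
          rw [h3]
          exact mul_mem ha hb
      inv_mem' := by
        rintro a (ha | ha)
        · exact Or.inl (inv_mem ha)
        · right
          have h4 : t * (t * a) = a := by rw [← mul_assoc, ht2, one_mul]
          have h5 : t * (t * a) = (t * a) * t := htA _ ha
          have h6 : (t * a)⁻¹ = t * a⁻¹ := by
            have ht' : t⁻¹ = t := inv_eq_of_mul_eq_one_left ht2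
            have h7 : a = (t * a) * t := h4.symm.trans h5
            have h8 : t * a⁻¹ = t * ((t * a) * t)⁻¹ := by rw [← h7]
            rw [h8, mul_inv_rev (t * a) t, ht', ← mul_assoc, ht2, one_mul]
          rw [← h6]
          exact inv_mem ha }
  have hB : A ⊔ zpowers t = B := by
    apply le_antisymm
    · refine sup_le (fun a ha => Or.inl ha) ?_
      rw [zpowers_le]
      right
      rw [ht2]; exact one_mem A
    · rintro a (ha | ha)
      · exact (le_sup_left : A ≤ A ⊔ zpowers t) ha
      · have h4 : t * (t * a) = a := by rw [← mul_assoc, ht2, one_mul]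
        rw [← h4]
        exact mul_mem ((le_sup_right : zpowers t ≤ A ⊔ zpowers t) (mem_zpowers t))
          ((le_sup_left : A ≤ A ⊔ zpowers t) ha)
  rw [hB]
  -- elements of `B`
  have hel : ∀ a ∈ B, ∃ i ∈ ({1, t} : Set X), ∃ c ∈ A, a = i * c := by
    rintro a (ha | ha)
    · exact ⟨1, by simp, a, ha, (one_mul a).symm⟩
    · exact ⟨t, by simp, t * a, ha, by rw [← mul_assoc, ht2, one_mul]⟩
  have hi : ∀ i ∈ ({1, t} : Set X), (∀ c ∈ A, i * c = c * i) ∧ i * i = 1 ∧ (∀ j ∈ ({1, t} : Set X), i * j = j * i) := by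
    rintro i (rfl | hi)
    · exact ⟨fun c _ => by rw [one_mul, mul_one], one_mul 1, fun j _ => by rw [one_mul, mul_one]⟩
    · have hi' : i = t := hi
      subst hi'
      refine ⟨htA, ht2, ?_⟩
      rintro j (rfl | hj)
      · rw [one_mul, mul_one]
      · have hj' : j = i := hj
        rw [hj']
  refine ⟨?_, ?_, ?_⟩
  · intro a ha b hb
    obtain ⟨i, hi', c, hc, rfl⟩ := hel a ha
    obtain ⟨j, hj', d, hd, rfl⟩ := hel b hb
    calc i * c * (j * d) = i * (c * j) * d := by simp only [mul_assoc]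
      _ = i * (j * c) * d := by rw [← (hi j hj').1 c hc]
      _ = (i * j) * (c * d) := by simp only [mul_assoc]
      _ = (j * i) * (d * c) := by rw [(hi i hi').2.2 j hj', hab c hc d hd]
      _ = j * (i * d) * c := by simp only [mul_assoc]
      _ = j * (d * i) * c := by rw [(hi i hi').1 d hd]
      _ = j * d * (i * c) := by simp only [mul_assoc]
  · intro a ha
    obtain ⟨i, hi', c, hc, rfl⟩ := hel a ha
    calc i * c * (i * c) = i * (c * i) * c := by simp only [mul_assoc]
      _ = i * (i * c) * c := by rw [← (hi i hi').1 c hc]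
      _ = (i * i) * (c * c) := by simp only [mul_assoc]
      _ = 1 := by rw [(hi i hi').2.1, h2 c hc, one_mul]
  · have h5 : Nat.card (A ⊕ A) ≤ Nat.card B := by
      refine Nat.card_le_card_of_injective
        (Sum.elim (fun a : A => (⟨a, Or.inl a.2⟩ : B)) (fun a : A => (⟨t * a, Or.inr (by
          rw [← mul_assoc, ht2, one_mul]; exact a.2)⟩ : B))) ?_
      intro x y hxy
      have hxy' := congrArg Subtype.val hxy
      rcases x with a | a <;> rcases y with b | b
      · exact congrArg Sum.inl (Subtype.ext hxy')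
      · exfalso
        have h6 : (a : X) = t * b := hxy'
        apply hnt
        have h7 : t = a * (b : X)⁻¹ := by rw [h6, mul_inv_cancel_right]
        rw [h7]
        exact mul_mem a.2 (inv_mem b.2)
      · exfalso
        have h6 : t * (a : X) = b := hxy'
        apply hnt
        have h7 : t = b * (a : X)⁻¹ := by rw [← h6, mul_inv_cancel_right]
        rw [h7]
        exact mul_mem b.2 (inv_mem a.2)
      · have h6 : t * (a : X) = t * b := hxy'
        exact congrArg Sum.inr (Subtype.ext (mul_left_cancel h6))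
    rw [Nat.card_sum] at h5
    omega

theorem EA_fix (h : CF I) (α : MulAut X) {T : Subgroup X} (hTI : T ∈ I)
    {J : Finset (Subgroup X)} (hJ : J ⊆ I) (hTJ : T ∉ J) [DecidableEq (Subgroup X)] (hE : EA α J) {t : X}
    (ht : t ∈ T) (ht1 : t ≠ 1) (ht2 : t * t = 1) (htα : α t = t) : EA α (insert T J) := by
  obtain ⟨A, hA, hab, hsq, hα, hcard⟩ := hE
  have hnt : t ∉ A := fun hmem => ht1 (h.disj hJ hTI hTJ ht (hA hmem))
  have hk := adj hab hsq ht2 (fun a ha => h.comm_SS hJ hTI hTJ ht (hA ha)) hnt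
  refine ⟨A ⊔ zpowers t, ?_, hk.1, hk.2.1, ?_, ?_⟩
  · refine sup_le (hA.trans (SS_mono (Finset.subset_insert T J))) ?_
    rw [zpowers_le]
    exact le_SS (Finset.mem_insert_self T J) ht
  · have h3 : A ⊔ zpowers t ≤ (A ⊔ zpowers t).comap α.toMonoidHom := by
      refine sup_le (fun a ha => (le_sup_left : A ≤ A ⊔ zpowers t) (hα a ha)) ?_
      rw [zpowers_le]
      change α t ∈ A ⊔ zpowers t
      rw [htα]
      exact (le_sup_right : zpowers t ≤ A ⊔ zpowers t) (mem_zpowers t)
    exact fun a ha => h3 ha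
  · rw [Finset.card_insert_of_notMem hTJ, pow_succ]
    have := hk.2.2
    omega

theorem EA_swap (h : CF I) (α : MulAut X) (h2 : ∀ x, α (α x) = x) {T T' : Subgroup X} (hTI : T ∈ I)
    (hTI' : T' ∈ I) (hne : T ≠ T') {J : Finset (Subgroup X)} (hJ : J ⊆ I)
    (hTJ : T ∉ J) (hTJ' : T' ∉ J) (hT : T.map α.toMonoidHom = T') [DecidableEq (Subgroup X)] (hE : EA α J) {t : X}
    (ht : t ∈ T) (ht1 : t ≠ 1) (ht2 : t * t = 1) : EA α (insert T (insert T' J)) := by
  obtain ⟨A, hA, hab, hsq, hα, hcard⟩ := hE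
  have htα : α t ∈ T' := hT ▸ mem_map_of_mem _ ht
  have hα1 : α t ≠ 1 := fun h0 => ht1 (by rw [← h2 t, h0, map_one])
  have hα2 : α t * α t = 1 := by rw [← map_mul, ht2, map_one]
  have hnt : α t ∉ A := fun hmem => hα1 (h.disj hJ hTI' hTJ' htα (hA hmem))
  have hk := adj hab hsq hα2 (fun a ha => h.comm_SS hJ hTI' hTJ' htα (hA ha)) hnt
  have hTJ2 : T ∉ insert T' J := by
    rw [Finset.mem_insert, not_or]; exact ⟨hne, hTJ⟩
  have hJ2 : insert T' J ⊆ I := Finset.insert_subset hTI' hJ
  have hA2 : A ⊔ zpowers (α t) ≤ SS (insert T' J) := by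
    refine sup_le (hA.trans (SS_mono (Finset.subset_insert T' J))) ?_
    rw [zpowers_le]
    exact le_SS (Finset.mem_insert_self T' J) htα
  have hnt2 : t ∉ A ⊔ zpowers (α t) := fun hmem => ht1 (h.disj hJ2 hTI hTJ2 ht (hA2 hmem))
  have hk2 := adj hk.1 hk.2.1 ht2 (fun a ha => h.comm_SS hJ2 hTI hTJ2 ht (hA2 ha)) hnt2
  refine ⟨A ⊔ zpowers (α t) ⊔ zpowers t, ?_, hk2.1, hk2.2.1, ?_, ?_⟩
  · refine sup_le (hA2.trans (SS_mono (Finset.subset_insert T _))) ?_
    rw [zpowers_le]
    exact le_SS (Finset.mem_insert_self T _) ht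
  · have e1 : A ≤ A ⊔ zpowers (α t) ⊔ zpowers t := le_sup_left.trans le_sup_left
    have e2 : zpowers (α t) ≤ A ⊔ zpowers (α t) ⊔ zpowers t := le_sup_right.trans le_sup_left
    have e3 : zpowers t ≤ A ⊔ zpowers (α t) ⊔ zpowers t := le_sup_right
    have h3 : A ⊔ zpowers (α t) ⊔ zpowers t ≤ (A ⊔ zpowers (α t) ⊔ zpowers t).comap α.toMonoidHom := by
      refine sup_le (sup_le (fun a ha => e1 (hα a ha)) ?_) ?_
      · rw [zpowers_le]
        change α (α t) ∈ (A ⊔ zpowers (α t) ⊔ zpowers t : Subgroup X)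
        rw [h2]
        exact e3 (mem_zpowers t)
      · rw [zpowers_le]
        exact e2 (mem_zpowers (α t))
    exact fun a ha => h3 ha
  · rw [Finset.card_insert_of_notMem hTJ2, Finset.card_insert_of_notMem hTJ', pow_succ, pow_succ]
    have := hk.2.2
    have := hk2.2.2
    omega

theorem map_map_self (α : MulAut X) (h2 : ∀ x, α (α x) = x) (L : Subgroup X) :
    (L.map α.toMonoidHom).map α.toMonoidHom = L := by
  ext x
  constructor
  · rintro ⟨y, ⟨z, hz, rfl⟩, rfl⟩
    change α (α z) ∈ L
    rw [h2]; exact hz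
  · intro hx
    exact ⟨α x, ⟨x, hx, rfl⟩, h2 x⟩

/-- the numerical hypotheses on a member of the family -/
structure Good (K : Type u) [Group K] : Prop where
  fixed : ∀ β : MulAut K, (∀ x, β (β x) = x) → Nat.card (MulAut K) ≤ Nat.card {t : K // β t = t} ^ 5
  sq : Nat.card (MulAut K) ^ 2 ≤ Nat.card K ^ 5
  even : Even (Nat.card K)

theorem ind (h : CF I) (α : MulAut X) (h2 : ∀ x, α (α x) = x) (hG : ∀ K ∈ I, Good K) (n : ℕ) :
    ∀ J : Finset (Subgroup X), J.card = n → J ⊆ I → (∀ L ∈ J, L.map α.toMonoidHom ∈ J) →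
      (∏ L ∈ J, Nat.card (MulAut L) ≤ fixc α J ^ 5) ∧ EA α J := by
  classical
  induction n using Nat.strong_induction_on with
  | _ n ih =>
  intro J hn hJ hinv
  rcases J.eq_empty_or_nonempty with rfl | ⟨T, hTJ⟩
  · refine ⟨?_, ⊥, bot_le, ?_, ?_, ?_, ?_⟩
    · rw [Finset.prod_empty]
      exact Nat.one_le_pow _ _ (fixc_empty α)
    · intro a ha b hb
      rw [mem_bot.1 ha, mem_bot.1 hb]
    · intro a ha
      rw [mem_bot.1 ha, one_mul]
    · intro a ha
      rw [mem_bot.1 ha, map_one]
      exact one_mem _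
    · simp
  · have hTI := hJ hTJ
    have hGT := hG T hTI
    obtain ⟨T', hT'⟩ : ∃ T', T.map α.toMonoidHom = T' := ⟨_, rfl⟩
    have hT'T : T'.map α.toMonoidHom = T := by rw [← hT', map_map_self α h2]
    have hTJ' : T' ∈ J := hT' ▸ hinv T hTJ
    by_cases heq : T' = T
    · rw [heq] at hT'
      have hlt : (J.erase T).card < n := by rw [← hn]; exact Finset.card_erase_lt_of_mem hTJ
      have hinv' : ∀ L ∈ J.erase T, L.map α.toMonoidHom ∈ J.erase T := by
        intro L hL
        rw [Finset.mem_erase] at hL ⊢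
        refine ⟨fun e => hL.1 ?_, hinv L hL.2⟩
        rw [← map_map_self α h2 L, e, hT']
      obtain ⟨i1, i2⟩ := ih _ hlt (J.erase T) rfl ((Finset.erase_subset T J).trans hJ) hinv'
      have hnot : T ∉ J.erase T := Finset.notMem_erase T J
      have hins : insert T (J.erase T) = J := Finset.insert_erase hTJ
      have hβ : ∀ x, rst α T hT' (rst α T hT' x) = x := fun x => Subtype.ext (h2 x)
      have hsub := (Finset.erase_subset T J).trans hJ
      refine ⟨?_, ?_⟩
      · rw [← Finset.mul_prod_erase J (fun L : Subgroup X => Nat.card (MulAut L)) hTJ]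
        have h3 := step_fix h α hTI hsub hnot hT'
        rw [hins] at h3
        calc Nat.card (MulAut T) * ∏ L ∈ J.erase T, Nat.card (MulAut L)
            ≤ Nat.card {t : T // rst α T hT' t = t} ^ 5 * fixc α (J.erase T) ^ 5 :=
              Nat.mul_le_mul (hGT.fixed _ hβ) i1
          _ = (Nat.card {t : T // rst α T hT' t = t} * fixc α (J.erase T)) ^ 5 := by rw [mul_pow]
          _ ≤ fixc α J ^ 5 := Nat.pow_le_pow_left h3 5
      · obtain ⟨t, ht1, ht2, ht3⟩ := exists_fixed_involution hGT.even (rst α T hT') hβ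
        have h3 := EA_fix h α hTI hsub hnot i2 t.2 (fun e => ht1 (Subtype.ext e))
          (congrArg Subtype.val ht2) (congrArg Subtype.val ht3)
        rwa [hins] at h3
    · have hT'e : T' ∈ J.erase T := Finset.mem_erase.2 ⟨heq, hTJ'⟩
      set J' := (J.erase T).erase T' with hJ'
      have hlt : J'.card < n := by
        have h3 := Finset.card_erase_lt_of_mem hT'e
        have h4 := Finset.card_erase_lt_of_mem hTJ
        rw [← hJ'] at h3
        omega
      have hinv' : ∀ L ∈ J', L.map α.toMonoidHom ∈ J' := by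
        intro L hL
        rw [hJ', Finset.mem_erase, Finset.mem_erase] at hL ⊢
        refine ⟨fun e => hL.2.1 ?_, fun e => hL.1 ?_, hinv L hL.2.2⟩
        · rw [← map_map_self α h2 L, e, hT'T]
        · rw [← map_map_self α h2 L, e, hT']
      have hsub' : J' ⊆ J := (Finset.erase_subset _ _).trans (Finset.erase_subset _ _)
      have hsub := hsub'.trans hJ
      obtain ⟨i1, i2⟩ := ih _ hlt J' rfl hsub hinv'
      have hn1 : T ∉ J' := fun e => (Finset.mem_erase.1 (Finset.mem_of_mem_erase e)).1 rfl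
      have hn2 : T' ∉ J' := Finset.notMem_erase T' _
      have hins : insert T (insert T' J') = J := by
        rw [hJ', Finset.insert_erase hT'e, Finset.insert_erase hTJ]
      have hcardT : Nat.card (MulAut T') = Nat.card (MulAut T) := by
        have e : T ≃* T' := (MulEquiv.subgroupMap α T).trans (MulEquiv.subgroupCongr hT')
        exact (Nat.card_congr (MulAut.congr e).toEquiv).symm
      refine ⟨?_, ?_⟩
      · rw [← Finset.mul_prod_erase J (fun L : Subgroup X => Nat.card (MulAut L)) hTJ,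
          ← Finset.mul_prod_erase (J.erase T) (fun L : Subgroup X => Nat.card (MulAut L)) hT'e]
        have h3 := step_swap h α h2 hTI (hJ hTJ') (Ne.symm heq) hsub hn1 hn2 hT'
        rw [hins] at h3
        calc Nat.card (MulAut T) * (Nat.card (MulAut T') * ∏ L ∈ J', Nat.card (MulAut L))
            = Nat.card (MulAut T) ^ 2 * ∏ L ∈ J', Nat.card (MulAut L) := by rw [hcardT]; ring
          _ ≤ Nat.card T ^ 5 * fixc α J' ^ 5 := Nat.mul_le_mul hGT.sq i1
          _ = (Nat.card T * fixc α J') ^ 5 := by rw [mul_pow]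
          _ ≤ fixc α J ^ 5 := Nat.pow_le_pow_left h3 5
      · obtain ⟨t, ht1, ht2, -⟩ := exists_fixed_involution hGT.even (1 : MulAut T) (fun x => rfl)
        have h3 := EA_swap h α h2 hTI (hJ hTJ') (Ne.symm heq) hsub hn1 hn2 hT' i2 t.2
          (fun e => ht1 (Subtype.ext e)) (congrArg Subtype.val ht2)
        rwa [hins] at h3

/-! ## The permutation action on the family -/

/-- the action by conjugation on an invariant family -/
def perm (hconj : ∀ K ∈ I, ∀ x : X, cj x K ∈ I) : X →* Equiv.Perm I where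
  toFun x :=
    { toFun := fun K => ⟨cj x K, hconj K K.2 x⟩
      invFun := fun K => ⟨cj x⁻¹ K, hconj K K.2 x⁻¹⟩
      left_inv := fun K => Subtype.ext (by
        change cj x⁻¹ (cj x (K : Subgroup X)) = K
        rw [← cj_mul, inv_mul_cancel, cj_one])
      right_inv := fun K => Subtype.ext (by
        change cj x (cj x⁻¹ (K : Subgroup X)) = K
        rw [← cj_mul, mul_inv_cancel, cj_one]) }
  map_one' := by
    apply Equiv.ext
    intro K
    exact Subtype.ext (cj_one (K : Subgroup X))
  map_mul' x y := by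
    apply Equiv.ext
    intro K
    exact Subtype.ext (cj_mul x y K)

theorem card_le (hconj : ∀ K ∈ I, ∀ x : X, cj x K ∈ I)
    (hfaith : ∀ x : X, (∀ K ∈ I, ∀ y ∈ K, x * y * x⁻¹ = y) → x = 1) :
    Nat.card X ≤ I.card.factorial * ∏ K ∈ I, Nat.card (MulAut K) := by
  classical
  have h1 := (perm hconj).ker.card_mul_index
  rw [Subgroup.index_ker] at h1
  have h2 : Nat.card (perm hconj).range ≤ I.card.factorial := by
    have h3 : Nat.card (perm hconj).range ≤ Nat.card (Equiv.Perm I) :=
      Nat.card_le_card_of_injective _ (perm hconj).range.subtype_injective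
    have h3' : Nat.card (Equiv.Perm I) = I.card.factorial := by
      rw [Nat.card_eq_fintype_card, Fintype.card_perm, Fintype.card_coe]
    rwa [h3'] at h3
  have hker : ∀ x : (perm hconj).ker, ∀ K : I, (K : Subgroup X).map (MulAut.conj (x : X)).toMonoidHom = K := by
    intro x K
    have h3 : perm hconj (x : X) = 1 := x.2
    exact congrArg Subtype.val (Equiv.ext_iff.1 h3 K)
  have h4 : Nat.card (perm hconj).ker ≤ ∏ K ∈ I, Nat.card (MulAut K) := by
    have h5 : Nat.card (perm hconj).ker ≤ Nat.card (∀ K : I, MulAut K.1) := by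
      refine Nat.card_le_card_of_injective
        (fun x => fun K : I => rst (MulAut.conj (x : X)) K (hker x K)) ?_
      intro x y hxy
      have h6 : ∀ K ∈ I, ∀ z ∈ K, (x : X) * z * (x : X)⁻¹ = y * z * (y : X)⁻¹ := by
        intro K hK z hz
        have h7 := congrFun hxy ⟨K, hK⟩
        have h8 := DFunLike.congr_fun h7 (⟨z, hz⟩ : K)
        exact congrArg Subtype.val h8
      have h9 := hfaith ((y : X)⁻¹ * x) (fun K hK z hz => by
        have h10 := h6 K hK z hz
        calc (y : X)⁻¹ * x * z * ((y : X)⁻¹ * x)⁻¹ = (y : X)⁻¹ * (x * z * (x : X)⁻¹) * y := by group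
          _ = (y : X)⁻¹ * (y * z * (y : X)⁻¹) * y := by rw [h10]
          _ = z := by group)
      exact Subtype.ext (inv_mul_eq_one.1 h9).symm
    rw [Nat.card_pi] at h5
    rwa [Finset.prod_coe_sort I (fun K => Nat.card (MulAut K))] at h5
  calc Nat.card X = Nat.card (perm hconj).range * Nat.card (perm hconj).ker := by rw [← h1, mul_comm]
    _ ≤ I.card.factorial * ∏ K ∈ I, Nat.card (MulAut K) := Nat.mul_le_mul h2 h4

end fam

/-- **S3929, lemma TOP.** -/
theorem top_bound {X : Type u} [Group X] [Finite X] (hF : Cfsg.fittingSubgroup X = ⊥) (α : MulAut X)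
    (h2 : ∀ x, α (α x) = x)
    (hT : ∀ (T : Type u) [Group T] [Finite T] [IsSimpleGroup T], ¬ IsMulCommutative T → ∀ β : MulAut T,
      (∀ x, β (β x) = x) → Nat.card (MulAut T) ≤ Nat.card {t : T // β t = t} ^ 5)
    (hT2 : ∀ (T : Type u) [Group T] [Finite T] [IsSimpleGroup T], ¬ IsMulCommutative T →
      Nat.card (MulAut T) ^ 2 ≤ Nat.card T ^ 5) :
    ∃ (n : ℕ) (A : Subgroup X), (∀ a ∈ A, ∀ b ∈ A, a * b = b * a) ∧ (∀ a ∈ A, a * a = 1) ∧
      (∀ a ∈ A, α a ∈ A) ∧ 2 ^ n ≤ Nat.card A ∧
      Nat.card X ≤ n.factorial * Nat.card {x : X // α x = x} ^ 5 := by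
  classical
  have hNS : NoSol X := noSol_of_fitting hF
  let I : Finset (Subgroup X) := (Set.toFinite {K : Subgroup X | IsComponent K}).toFinset
  have hI : ∀ K, K ∈ I ↔ IsComponent K := fun K => by
    rw [Set.Finite.mem_toFinset]; rfl
  have hconj : ∀ K ∈ I, ∀ x : X, cj x K ∈ I := by
    intro K hK x
    rw [hI] at hK ⊢
    exact isComponent_map_equiv (MulAut.conj x) hK
  have hfaith : ∀ x : X, (∀ K ∈ I, ∀ y ∈ K, x * y * x⁻¹ = y) → x = 1 := by
    intro x hx
    exact eq_one_of_centralizes hNS fun C hC y hy => hx C ((hI C).2 hC) y hy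
  have hCF : CF I := by
    refine ⟨fun K hK L hL hne x hx y hy => comm_of_ne ((hI K).1 hK) ((hI L).1 hL) hne hx hy, ?_⟩
    intro K hK x hx hc
    have h1 := center_eq_bot hNS ((hI K).1 hK)
    have h3 : (⟨x, hx⟩ : K) ∈ center K := by
      rw [mem_center_iff]
      intro g
      exact Subtype.ext (hc g g.2).symm
    rw [h1, mem_bot] at h3
    exact congrArg Subtype.val h3
  have hGood : ∀ K ∈ I, Good K := by
    intro K hK
    have hK' := (hI K).1 hK
    haveI := Cfsg.Agent.H369.Socle.isSimple hNS hK'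
    have hnc : ¬ IsMulCommutative K := quasisimple_not_isMulCommutative hK'.2
    refine ⟨fun β hβ => hT K hnc β hβ, hT2 K hnc, ?_⟩
    by_contra hodd
    rw [Nat.not_even_iff_odd] at hodd
    exact quasisimple_not_isSolvable hK'.2 (Cfsg.Agent.S0205.result hodd)
  have hinv : ∀ L ∈ I, L.map α.toMonoidHom ∈ I := by
    intro L hL
    rw [hI] at hL ⊢
    exact isComponent_map_equiv α hL
  obtain ⟨h3, A, -, h4, h5, h6, h7⟩ := ind hCF α h2 hGood I.card I rfl (Finset.Subset.refl I) hinv
  refine ⟨I.card, A, h4, h5, h6, h7, ?_⟩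
  refine (card_le hconj hfaith).trans (Nat.mul_le_mul_left _ (h3.trans (Nat.pow_le_pow_left ?_ 5)))
  unfold fixc
  exact Nat.card_le_card_of_injective (fun z : {x : X // x ∈ SS I ∧ α x = x} =>
    (⟨z.1, z.2.2⟩ : {x : X // α x = x})) (fun a b hab => by
      apply Subtype.ext
      exact congrArg (fun z : {x : X // α x = x} => (z : X)) hab)

end Cfsg.Agent.H446.TopBound
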